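import Groth.Agent.Lib.AlgSpDecent.Basic2
import Groth.Agent.Lib.AlgSpDecent.Sober
import Groth.Agent.Lib.AlgSpRel14.RelDim
import Groth.Agent.Lib.UCat26.DimFun
import Groth.Agent.Lib.EtBase.Unramified
import Groth.Agent.Lib.UCat.Colimit
import Groth.Agent.Lib.CatenarySch12.DimFun
import Groth.Agent.S12444
import Groth.Agent.S12446
import Groth.Agent.S12447
import Groth.Prelude.Def_W4stk3decentspacesp2Birat

/-!
# Points of decent spaces over universally catenary schemes are catenary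
-/

set_option autoImplicit false
set_option linter.style.haveILetI false

universe u

set_option backward.isDefEq.respectTransparency.types false

open CategoryTheory CategoryTheory.Limits AlgebraicGeometry AlgSp TopologicalSpace Topology

namespace Groth.Agent.CatenarySp27

open Groth.Agent.AlgSpace Groth.Agent.AlgSpDecent

theorem rd_restrict {A B : Scheme.{u}} (f : A ⟶ B) [LocallyOfFiniteType f] (V : B.Opens) (w : (f ⁻¹ᵁ V).toScheme) :
    FibDim14.rd (f ∣_ V) w = FibDim14.rd f ((f ⁻¹ᵁ V).ι w) := by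
  have h1 := FibDim14.rd_comp (f ∣_ V) V.ι w
  have h2 := FibDim14.rd_comp (f ⁻¹ᵁ V).ι f w
  rw [morphismRestrict_ι] at h1
  rw [AlgSpRel14.rd_eq_zero_of_lqf V.ι, zero_add] at h1
  rw [AlgSpRel14.rd_eq_zero_of_lqf (f ⁻¹ᵁ V).ι, add_zero] at h2
  rw [← h1, h2]

theorem rd_comp_etale {A B C : Scheme.{u}} (s : A ⟶ B) [Etale s] (f : B ⟶ C) [LocallyOfFiniteType f] (r : A) :
    FibDim14.rd (s ≫ f) r = FibDim14.rd f (s r) := by
  haveI : LocallyQuasiFinite s := EtBase.locallyQuasiFinite_of_formallyUnramified s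
  rw [FibDim14.rd_comp s f r, AlgSpRel14.rd_eq_zero_of_lqf s, add_zero]

theorem isCatenary_of_isUniversallyCatenary {R : Type u} [CommRing R] (h : CAlg.IsUniversallyCatenary R) :
    CAlg.IsCatenary R :=
  h.2 R inferInstance

/-- Passage between the two renderings of catenary spaces. -/
theorem isCatenarySpace_birat {X : Type u} [TopologicalSpace X] (h : PtTop.IsCatenarySpace X) :
    W4stk3decentspacesp2.IsCatenarySpace X := by
  intro T T' hT
  obtain ⟨hne, hlen⟩ := h T T' hT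
  refine ⟨⟨(PtTop.codim T (T' : Set X)).toNat, fun p hp hp' => ?_⟩, fun p q hp hp' hq hq' hps hqs => ?_⟩
  · have hle : (p.length : ℕ∞) ≤ PtTop.codim T (T' : Set X) :=
      le_iSup₂_of_le (f := fun (s : LTSeries (IrreducibleCloseds X)) (_ : s.head = T ∧ (s.last : Set X) ⊆ T') =>
        (s.length : ℕ∞)) p ⟨hp, hp' ▸ subset_rfl⟩ le_rfl
    have h2 := ENat.toNat_le_toNat hle hne
    simpa using h2
  · exact_mod_cast (hlen p hp hp' hps).trans (hlen q hq hq' hqs).symm

variable {S : Scheme.{u}}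

/-- A dimension function on an open piece of the space of points. -/
theorem exists_dimensionFunction_nhd [IsLocallyNoetherian S]
    (hS : ∀ s : S, CAlg.IsUniversallyCatenary (S.presheaf.stalk s)) (X : Space S) (hX : IsDecent X.obj)
    {U : Over S} (a : (yon S).obj U ⟶ X.obj) (ha : RepWith @Etale a) [LocallyOfFiniteType U.hom]
    (V : S.Opens) (δV : ↥V → ℤ) (hV : PtTop.IsDimensionFunction δV) :
    ∃ δ : ↥(Points.ofPt a '' (U.hom ⁻¹ᵁ V : Set U.left)) → ℤ, PtTop.IsDimensionFunction δ := by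
  have hd : Cyc.IsDimFun V.toScheme δV := fun x y hxy hne =>
    ⟨hV.1 x y hxy hne, fun him => hV.2 x y ⟨hxy, hne, him⟩⟩
  have huc : ∀ v : V.toScheme, CAlg.IsUniversallyCatenary (V.toScheme.presheaf.stalk v) := fun v =>
    UCat.isUniversallyCatenary_of_ringEquiv (V.stalkIso v).symm.commRingCatIsoToRingEquiv (hS v.1)
  let δU : (U.hom ⁻¹ᵁ V).toScheme → ℤ := fun w => δV ((U.hom ∣_ V) w) + FibDim14.rd (U.hom ∣_ V) w
  haveI : LocallyOfFiniteType (U.hom ∣_ V) :=
    IsZariskiLocalAtTarget.restrict (P := @LocallyOfFiniteType) inferInstance V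
  have hdU : Cyc.IsDimFun (U.hom ⁻¹ᵁ V).toScheme δU :=
    UCat26.isDimFun_of_deltaCompat (U.hom ∣_ V) huc hd
      fun w => ⟨FibDim14.rd (U.hom ∣_ V) w, FibDim14.rdeg_eq_rd _ _, rfl⟩
  have hfin := fun z => finFibres_of_isDecent X.property.diag hX z
  obtain ⟨R, s, t, hs, ht, hrel, -⟩ := exists_chart_relation ha
  have hwd : ∀ w w' : (U.hom ⁻¹ᵁ V).toScheme, Points.ofPt a ((U.hom ⁻¹ᵁ V).ι w) = Points.ofPt a ((U.hom ⁻¹ᵁ V).ι w') →
      δU w = δU w' := by
    intro w w' e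
    obtain ⟨r, hr, hr'⟩ := hrel _ _ e
    have e1 : U.hom ((U.hom ⁻¹ᵁ V).ι w) = U.hom ((U.hom ⁻¹ᵁ V).ι w') := by
      rw [← hr, ← hr', ← Scheme.Hom.comp_apply, ← Scheme.Hom.comp_apply, Over.w t, Over.w s]
    have e2 : (U.hom ∣_ V) w = (U.hom ∣_ V) w' := V.ι.isOpenEmbedding.injective (by
      rw [← Scheme.Hom.comp_apply, ← Scheme.Hom.comp_apply, morphismRestrict_ι]
      exact e1)
    change δV _ + _ = δV _ + _
    rw [rd_restrict, rd_restrict, e2, ← hr, ← hr', ← rd_comp_etale, ← rd_comp_etale, Over.w t, Over.w s]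
  have hlift : ∀ x : ↥(Points.ofPt a '' (U.hom ⁻¹ᵁ V : Set U.left)),
      ∃ w : (U.hom ⁻¹ᵁ V).toScheme, Points.ofPt a ((U.hom ⁻¹ᵁ V).ι w) = x.1 := fun ⟨_, u, hu, e⟩ => ⟨⟨u, hu⟩, e⟩
  choose w hw using hlift
  have key : ∀ x y : ↥(Points.ofPt a '' (U.hom ⁻¹ᵁ V : Set U.left)), x ⤳ y → x ≠ y →
      δU (w y) < δU (w x) ∧ ((∀ z, x ⤳ z → z ⤳ y → z = x ∨ z = y) → δU (w x) = δU (w y) + 1) := by
    intro x y hxy hne
    have hxy' : x.1 ⤳ y.1 := hxy.map continuous_subtype_val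
    obtain ⟨v', hv'v, hv'⟩ := exists_specializes_lift ha hxy' (hfin x.1) (hw y)
    have hmem : v' ∈ U.hom ⁻¹ᵁ V := hv'v.mem_open (U.hom ⁻¹ᵁ V).isOpen (w y).2
    let p : (U.hom ⁻¹ᵁ V).toScheme := ⟨v', hmem⟩
    have hp : Points.ofPt a ((U.hom ⁻¹ᵁ V).ι p) = x.1 := hv'
    rw [hwd (w x) p ((hw x).trans hp.symm)]
    have hps : p ⤳ w y :=
      ((U.hom ⁻¹ᵁ V).ι.isOpenEmbedding.isInducing.specializes_iff).1 hv'v
    have hne' : p ≠ w y := fun e => hne (Subtype.ext (by rw [← hp, e, hw y]))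
    obtain ⟨h1, h2⟩ := hdU p (w y) hps hne'
    refine ⟨h1, fun him => h2 fun q hq hq' => ?_⟩
    let z : ↥(Points.ofPt a '' (U.hom ⁻¹ᵁ V : Set U.left)) := ⟨_, _, q.2, rfl⟩
    have hxz : x ⤳ z := by
      rw [subtype_specializes_iff]
      exact hp ▸ (hq.map (U.hom ⁻¹ᵁ V).ι.continuous).map (Points.continuous_ofPt a)
    have hzy : z ⤳ y := by
      rw [subtype_specializes_iff]
      exact hw y ▸ (hq'.map (U.hom ⁻¹ᵁ V).ι.continuous).map (Points.continuous_ofPt a)
    rcases him z hxz hzy with he | he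
    · refine Or.inl ((U.hom ⁻¹ᵁ V).ι.isOpenEmbedding.injective ?_)
      exact (eq_of_specializes_of_finFibres ha (hfin x.1) (congrArg Subtype.val he) hp
        (hq.map (U.hom ⁻¹ᵁ V).ι.continuous)).symm
    · refine Or.inr ((U.hom ⁻¹ᵁ V).ι.isOpenEmbedding.injective ?_)
      exact eq_of_specializes_of_finFibres ha (hfin y.1) (hw y) (congrArg Subtype.val he)
        (hq'.map (U.hom ⁻¹ᵁ V).ι.continuous)
  exact ⟨fun x => δU (w x), fun x y h hne => (key x y h hne).1,
    fun x y h => (key x y h.1 h.2.1).2 h.2.2⟩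

theorem isCatenarySpace_points [IsLocallyNoetherian S]
    (hS : ∀ s : S, CAlg.IsUniversallyCatenary (S.presheaf.stalk s)) (X : Space S) (hX : IsDecent X.obj)
    (p : X.obj ⟶ (yon S).obj (Over.mk (𝟙 S))) (hp : LocP @LocallyOfFiniteType p) :
    W4stk3decentspacesp2.IsCatenarySpace (Points X.obj) := by
  haveI : T0Space (Points X.obj) := t0Space_of_finFibres X.property fun z => finFibres_of_isDecent X.property.diag hX z
  haveI := quasiSober_of_isDecent X.property hX
  have hcS : PtTop.IsCatenarySpace S :=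
    (S12446.result S).2 fun s => isCatenary_of_isUniversallyCatenary (hS s)
  obtain ⟨U, a, hae, has⟩ := X.property.atlas
  obtain ⟨h, hh⟩ := (yon S).map_surjective (a ≫ p)
  haveI : LocallyOfFiniteType U.hom := by
    have h0 : LocallyOfFiniteType h.left := hp a (𝟙 _) h hae (repWith_id @Etale _) (by rw [Category.comp_id, hh])
    have : h.left = U.hom := (Category.comp_id _).symm.trans (Over.w h)
    rwa [this] at h0
  refine isCatenarySpace_birat ((S12444.result (Points X.obj)).1.2 fun x => ?_)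
  obtain ⟨u, rfl⟩ := surjective_ofPt has x
  obtain ⟨V, hV, δV, hδV⟩ := (S12447.result S).1 hcS (U.hom u)
  let W : Opens (Points X.obj) :=
    ⟨_, isOpenMap_ofPt a hae _ (U.hom ⁻¹ᵁ V).isOpen⟩
  refine ⟨W, ⟨u, hV, rfl⟩, ?_⟩
  haveI : QuasiSober ↥W := W.isOpen.isOpenEmbedding_subtypeVal.quasiSober
  obtain ⟨δ, hδ⟩ := exists_dimensionFunction_nhd hS X hX a hae V δV hδV
  exact CatenarySch12.isCatenarySpace_of_dimensionFunction (X := ↥W) hδ

end Groth.Agent.CatenarySp27
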